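/-
A symplectic space over an extension field seen over the ground field: basic elements.
-/
import Cfsg.Agent.Lib.Transvec.SympSpaces
import Mathlib.RingTheory.Trace.Basic

set_option autoImplicit false
set_option linter.all false

namespace CfsgLib.Classical22.SpField

open Matrix CfsgLib.Transvec
open scoped MatrixGroups

variable {ι : Type} [Fintype ι] [DecidableEq ι] {F : Type*} [Field F]
variable {K : Type*} [Field K] [Algebra F K] [Module K (ι → F)] [IsScalarTower F K (ι → F)]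

/-- The form `f` is the trace of the alternating form `β` over `K`. -/
structure Over (f : (ι → F) → (ι → F) → F) (β : LinearMap.BilinForm K (ι → F)) : Prop where
  symp : Cfsg.Geo.IsSymplecticForm f
  alt : ∀ x, β x x = 0
  nd : ∀ x, x ≠ 0 → ∃ y, β x y ≠ 0
  form : ∀ x y, f x y = Algebra.trace F K (β x y)

/-- The hypothesis on the group. -/
def LinIn (β : LinearMap.BilinForm K (ι → F)) (M : Subgroup (GL ι F)) : Prop :=
  ∀ h : GL ι F, (∀ (k : K) (x : ι → F), (h : Matrix ι ι F) *ᵥ (k • x) = k • ((h : Matrix ι ι F) *ᵥ x)) →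
    (∀ x y, β ((h : Matrix ι ι F) *ᵥ x) ((h : Matrix ι ι F) *ᵥ y) = β x y) → h ∈ M

/-- The maps of the line through `v` that occur in `M`. -/
def Uni (β : LinearMap.BilinForm K (ι → F)) (M : Subgroup (GL ι F)) (v : ι → F) (X : K →ₗ[F] K) : Prop :=
  ∃ h ∈ M, ∀ x, (h : Matrix ι ι F) *ᵥ x = x + X (β x v) • v

/-- Self-adjoint for the trace form. -/
def Symm (X : K →ₗ[F] K) : Prop := ∀ a b, Algebra.trace F K (X a * b) = Algebra.trace F K (a * X b)

variable {f : (ι → F) → (ι → F) → F} {β : LinearMap.BilinForm K (ι → F)} {M : Subgroup (GL ι F)}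

namespace Over

variable (E : Over f β)
include E

lemma skew (x y : ι → F) : β x y = -β y x := by
  have h := E.alt (x + y)
  simp only [map_add, LinearMap.add_apply, E.alt] at h
  linear_combination h

lemma perp_zero {x y : ι → F} (h : β x y = 0) : β y x = 0 := by rw [E.skew, h, neg_zero]

lemma nd_right {y : ι → F} (hy : y ≠ 0) : ∃ x, β x y ≠ 0 := by
  obtain ⟨x, hx⟩ := E.nd y hy
  exact ⟨x, fun h => hx (E.perp_zero h)⟩

lemma iso_of_beta {h : GL ι F} (hh : ∀ x y, β ((h : Matrix ι ι F) *ᵥ x) ((h : Matrix ι ι F) *ᵥ y) = β x y) :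
    Iso f h := fun x y => by rw [E.form, E.form, hh]

/-- A transvection over `K`. -/
lemma exists_kS (hM : LinIn β M) (v : ι → F) (c : K) :
    ∃ h ∈ M, (∀ x y, β ((h : Matrix ι ι F) *ᵥ x) ((h : Matrix ι ι F) *ᵥ y) = β x y) ∧
      (∀ (k : K) x, (h : Matrix ι ι F) *ᵥ (k • x) = k • ((h : Matrix ι ι F) *ᵥ x)) ∧
      ∀ x, (h : Matrix ι ι F) *ᵥ x = x + (c * β x v) • v := by
  obtain ⟨T, hT⟩ : ∃ T : (ι → F) →ₗ[K] (ι → F), ∀ x, T x = x + (c * β x v) • v :=
    ⟨LinearMap.id + (c • β.flip v).smulRight v, fun x => by simp⟩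
  have hinj : Function.Injective (T.restrictScalars F) := by
    refine (injective_iff_map_eq_zero _).2 fun x hx => ?_
    rw [LinearMap.restrictScalars_apply, hT] at hx
    have h1 := congrArg (fun z => β z v) hx
    simp only [map_add, map_smul, LinearMap.add_apply, LinearMap.smul_apply, E.alt, smul_zero, add_zero,
      map_zero, LinearMap.zero_apply] at h1
    rwa [h1, mul_zero, zero_smul, add_zero] at hx
  obtain ⟨h, hh⟩ : ∃ h : GL ι F, ∀ x, (h : Matrix ι ι F) *ᵥ x = x + (c * β x v) • v :=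
    ⟨glOfInjective _ hinj, fun x => by rw [glOfInjective_mulVec, LinearMap.restrictScalars_apply, hT]⟩
  have hb : ∀ x y, β ((h : Matrix ι ι F) *ᵥ x) ((h : Matrix ι ι F) *ᵥ y) = β x y := fun x y => by
    simp only [hh, map_add, map_smul, LinearMap.add_apply, LinearMap.smul_apply, smul_eq_mul, E.alt,
      E.skew v y]
    ring
  have hl : ∀ (k : K) x, (h : Matrix ι ι F) *ᵥ (k • x) = k • ((h : Matrix ι ι F) *ᵥ x) := fun k x => by
    simp only [hh, map_smul, LinearMap.smul_apply, smul_eq_mul]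
    module
  exact ⟨h, hM h hl hb, hb, hl, hh⟩

/-- A short root element over `K`. -/
lemma exists_kR (hM : LinIn β M) {v u : ι → F} (hvu : β v u = 0) :
    ∃ h ∈ M, (∀ x y, β ((h : Matrix ι ι F) *ᵥ x) ((h : Matrix ι ι F) *ᵥ y) = β x y) ∧
      (∀ (k : K) x, (h : Matrix ι ι F) *ᵥ (k • x) = k • ((h : Matrix ι ι F) *ᵥ x)) ∧
      ∀ x, (h : Matrix ι ι F) *ᵥ x = x + β x v • u + β x u • v := by
  have huv := E.perp_zero hvu
  obtain ⟨T, hT⟩ : ∃ T : (ι → F) →ₗ[K] (ι → F), ∀ x, T x = x + β x v • u + β x u • v :=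
    ⟨LinearMap.id + (β.flip v).smulRight u + (β.flip u).smulRight v, fun x => by simp⟩
  have hinj : Function.Injective (T.restrictScalars F) := by
    refine (injective_iff_map_eq_zero _).2 fun x hx => ?_
    rw [LinearMap.restrictScalars_apply, hT] at hx
    have h1 := congrArg (fun z => β z v) hx
    have h2 := congrArg (fun z => β z u) hx
    simp only [map_add, map_smul, LinearMap.add_apply, LinearMap.smul_apply, E.alt, hvu, huv, smul_zero,
      add_zero, map_zero, LinearMap.zero_apply] at h1 h2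
    rwa [h1, h2, zero_smul, zero_smul, add_zero, add_zero] at hx
  obtain ⟨h, hh⟩ : ∃ h : GL ι F, ∀ x, (h : Matrix ι ι F) *ᵥ x = x + β x v • u + β x u • v :=
    ⟨glOfInjective _ hinj, fun x => by rw [glOfInjective_mulVec, LinearMap.restrictScalars_apply, hT]⟩
  have hb : ∀ x y, β ((h : Matrix ι ι F) *ᵥ x) ((h : Matrix ι ι F) *ᵥ y) = β x y := fun x y => by
    simp only [hh, map_add, map_smul, LinearMap.add_apply, LinearMap.smul_apply, smul_eq_mul, E.alt,
      hvu, huv, E.skew v y, E.skew u y]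
    ring
  have hl : ∀ (k : K) x, (h : Matrix ι ι F) *ᵥ (k • x) = k • ((h : Matrix ι ι F) *ᵥ x) := fun k x => by
    simp only [hh, map_smul, LinearMap.smul_apply, smul_eq_mul]
    module
  exact ⟨h, hM h hl hb, hb, hl, hh⟩

/-- Transitivity of the symplectic group over `K` on non-zero vectors. -/
lemma exists_move (hM : LinIn β M) {a b : ι → F} (ha : a ≠ 0) (hb : b ≠ 0) :
    ∃ h ∈ M, (∀ x y, β ((h : Matrix ι ι F) *ᵥ x) ((h : Matrix ι ι F) *ᵥ y) = β x y) ∧
      (∀ (k : K) x, (h : Matrix ι ι F) *ᵥ (k • x) = k • ((h : Matrix ι ι F) *ᵥ x)) ∧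
      (h : Matrix ι ι F) *ᵥ a = b := by
  have step : ∀ a b : ι → F, β a b ≠ 0 → ∃ h ∈ M,
      (∀ x y, β ((h : Matrix ι ι F) *ᵥ x) ((h : Matrix ι ι F) *ᵥ y) = β x y) ∧
      (∀ (k : K) x, (h : Matrix ι ι F) *ᵥ (k • x) = k • ((h : Matrix ι ι F) *ᵥ x)) ∧
      (h : Matrix ι ι F) *ᵥ a = b := by
    intro a b hab
    obtain ⟨h, hh, h1, h2, he⟩ := E.exists_kS hM (b - a) (β a b)⁻¹
    refine ⟨h, hh, h1, h2, ?_⟩
    rw [he, map_sub, E.alt, sub_zero, inv_mul_cancel₀ hab, one_smul, add_sub_cancel]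
  by_cases hab : β a b = 0
  swap
  · exact step a b hab
  obtain ⟨z, hza, hzb⟩ : ∃ z, β a z ≠ 0 ∧ β z b ≠ 0 := by
    obtain ⟨x, hx⟩ := E.nd a ha
    obtain ⟨y, hy⟩ := E.nd_right hb
    by_cases hxb : β x b = 0
    · by_cases hay : β a y = 0
      · exact ⟨x + y, by rw [map_add, hay, add_zero]; exact hx,
          by rw [map_add, LinearMap.add_apply, hxb, zero_add]; exact hy⟩
      · exact ⟨y, hay, hy⟩
    · exact ⟨x, hx, hxb⟩
  obtain ⟨h, hh, h1, h2, he⟩ := step a z hza
  obtain ⟨h', hh', h1', h2', he'⟩ := step z b hzb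
  exact ⟨h' * h, M.mul_mem hh' hh, fun x y => by simp only [mul_mulVec, h1', h1],
    fun k x => by simp only [mul_mulVec, h2, h2'], by rw [mul_mulVec, he, he']⟩

omit E in
lemma uni_mul {v : ι → F} (hv : β v v = 0) {X Y : K →ₗ[F] K} (hX : Uni β M v X) (hY : Uni β M v Y) :
    Uni β M v (X + Y) := by
  obtain ⟨h, hh, he⟩ := hX
  obtain ⟨h', hh', he'⟩ := hY
  refine ⟨h * h', M.mul_mem hh hh', fun x => ?_⟩
  rw [mul_mulVec, he, he', map_add, LinearMap.add_apply, map_smul, LinearMap.smul_apply, hv, smul_zero, add_zero,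
    LinearMap.add_apply]
  module

omit E in
lemma uni_neg {v : ι → F} (hv : β v v = 0) {X : K →ₗ[F] K} (hX : Uni β M v X) : Uni β M v (-X) := by
  obtain ⟨h, hh, he⟩ := hX
  refine ⟨h⁻¹, M.inv_mem hh, fun x => mulVec_injective h ?_⟩
  simp only [mulVec_inv_cancel]
  rw [he, map_add, LinearMap.add_apply, map_smul, LinearMap.smul_apply, hv, smul_zero, add_zero,
    LinearMap.neg_apply]
  module

lemma uni_lmul (hM : LinIn β M) (v : ι → F) (c : K) : Uni β M v (LinearMap.mulLeft F c) := by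
  obtain ⟨h, hh, -, -, he⟩ := E.exists_kS hM v c
  exact ⟨h, hh, fun x => by rw [he, LinearMap.mulLeft_apply]⟩

/-- Invariance under scaling the line. -/
lemma uni_scale (hM : LinIn β M) {v : ι → F} (hv : v ≠ 0) {X : K →ₗ[F] K} (hX : Uni β M v X) {c : K}
    (hc : c ≠ 0) : Uni β M v (LinearMap.mulLeft F c ∘ₗ X ∘ₗ LinearMap.mulLeft F c) := by
  obtain ⟨h, hh, hb, hl, he⟩ := E.exists_move hM hv (show c • v ≠ 0 from smul_ne_zero hc hv)
  obtain ⟨u, hu, hue⟩ := hX
  refine ⟨h * u * h⁻¹, M.mul_mem (M.mul_mem hh hu) (M.inv_mem hh), fun x => ?_⟩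
  have h1 : β (((h⁻¹ : GL ι F) : Matrix ι ι F) *ᵥ x) v = c * β x v := by
    rw [← hb, mulVec_inv_cancel, he, map_smul, smul_eq_mul]
  rw [mul_mulVec, mul_mulVec, hue, mulVec_add, mulVec_inv_cancel, hl, he, h1, smul_smul, LinearMap.comp_apply,
    LinearMap.comp_apply, LinearMap.mulLeft_apply, LinearMap.mulLeft_apply, mul_comm]

omit E in
lemma uni_congr {v : ι → F} {X Y : K →ₗ[F] K} (h : ∀ k, X k = Y k) (hX : Uni β M v X) : Uni β M v Y :=
  LinearMap.ext h ▸ hX

/-- A self-adjoint map of rank one gives a transvection over `F`. -/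
lemma sT_mem {v : ι → F} {e : K} {μ : F} {X : K →ₗ[F] K}
    (hXe : ∀ k, X k = (μ * Algebra.trace F K (e * k)) • e) (hX : Uni β M v X) : sT f (e • v) μ ∈ M := by
  obtain ⟨h, hh, he⟩ := hX
  rwa [show sT f (e • v) μ = h from gl_ext fun x => by
    rw [sT_mulVec E.symp, he, hXe, smul_assoc, E.form, map_smul, smul_eq_mul]]

end Over

end CfsgLib.Classical22.SpField
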