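/-
Additive groups of self-adjoint maps of an extension of degree two or three.
-/
import Mathlib.RingTheory.Trace.Basic
import Mathlib.FieldTheory.Finite.GaloisField
import Cfsg.Agent.Lib.Classical22.SpField.Basic

set_option autoImplicit false
set_option linter.all false

namespace CfsgLib.Classical22.SpField

variable {F : Type*} [Field F] [Fintype F] {K : Type*} [Field K] [Algebra F K] [FiniteDimensional F K]

/-- Every element of a finite field is a difference of two squares or a square. -/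
theorem exists_sq_sub_sq (t : F) : ∃ a b : F, a ^ 2 - b ^ 2 = t := by
  by_cases h2 : (2 : F) = 0
  · haveI : CharP F 2 := CharTwo.of_one_ne_zero_of_two_eq_zero one_ne_zero h2
    obtain ⟨a, ha⟩ := FiniteField.isSquare_of_char_two (ringChar.eq F 2) t
    exact ⟨a, 0, by rw [ha]; ring⟩
  · exact ⟨(t + 1) / 2, (t - 1) / 2, by field_simp; ring⟩

/-- The properties of the set of maps used below. -/
structure Closed (L : (K →ₗ[F] K) → Prop) : Prop where
  add : ∀ {X Y}, L X → L Y → L (X + Y)
  neg : ∀ {X}, L X → L (-X)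
  lmul : ∀ c, L (LinearMap.mulLeft F c)
  scale : ∀ {X} (c : K), c ≠ 0 → L X → L (LinearMap.mulLeft F c ∘ₗ X ∘ₗ LinearMap.mulLeft F c)

/-- A non-zero self-adjoint map of rank one. -/
def RankOne (L : (K →ₗ[F] K) → Prop) : Prop :=
  ∃ (X : K →ₗ[F] K) (e : K) (μ : F), L X ∧ e ≠ 0 ∧ μ ≠ 0 ∧ ∀ k, X k = (μ * Algebra.trace F K (e * k)) • e

/-- Degree two. -/
theorem rankOne_two (hr : Module.finrank F K = 2) {L : (K →ₗ[F] K) → Prop} (hL : Closed L) {X : K →ₗ[F] K}
    (hX : L X) (hs : Symm X) (hnl : ∃ k, X k ≠ X 1 * k) : RankOne L := by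
  classical
  haveI : Finite K := Module.finite_of_finite F
  obtain ⟨Y, hY⟩ : ∃ Y, Y = X + -LinearMap.mulLeft F (X 1) := ⟨_, rfl⟩
  have hYk : ∀ k, Y k = X k - X 1 * k := fun k => by rw [hY]; simp [sub_eq_add_neg]
  have hYs : ∀ a b, Algebra.trace F K (Y a * b) = Algebra.trace F K (a * Y b) := fun a b => by
    rw [hYk, hYk, sub_mul, mul_sub, map_sub, map_sub, hs, show X 1 * a * b = a * (X 1 * b) by ring]
  have hY1 : Y 1 = 0 := by rw [hYk, mul_one, sub_self]
  obtain ⟨k0, hk0⟩ := hnl
  obtain ⟨e, he, hedef⟩ : ∃ e : K, e ≠ 0 ∧ e = Y k0 := ⟨_, by rw [hYk]; exact sub_ne_zero.2 hk0, rfl⟩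
  have htr : ∀ a, Algebra.trace F K (Y a) = 0 := fun a => by
    have := hYs a 1
    rwa [hY1, mul_zero, map_zero, mul_one] at this
  -- the kernel of the trace is a line
  have hker : ∀ a, Algebra.trace F K a = 0 → ∃ c : F, c • e = a := by
    intro a ha
    have h1 := LinearMap.finrank_range_add_finrank_ker (Algebra.trace F K)
    rw [LinearMap.range_eq_top.2 (Algebra.trace_surjective F K), finrank_top, Module.finrank_self, hr] at h1
    have hle : Submodule.span F {e} ≤ LinearMap.ker (Algebra.trace F K) :=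
      (Submodule.span_singleton_le_iff_mem _ _).2 (by rw [LinearMap.mem_ker, hedef, htr])
    have heq := Submodule.eq_of_le_of_finrank_le hle (by rw [finrank_span_singleton he]; omega)
    exact Submodule.mem_span_singleton.1 (heq ▸ LinearMap.mem_ker.2 ha)
  choose μ hμ using fun a => hker (Y a) (htr a)
  obtain ⟨y, hy⟩ : ∃ y, Algebra.trace F K (e * y) = 1 := by
    obtain ⟨z, hz⟩ := Algebra.trace_surjective F K 1
    exact ⟨e⁻¹ * z, by rw [← mul_assoc, mul_inv_cancel₀ he, one_mul, hz]⟩
  have hμ' : ∀ k, μ k = μ y * Algebra.trace F K (e * k) := fun k => by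
    have := hYs k y
    rw [← hμ, ← hμ, smul_mul_assoc, mul_smul_comm, map_smul, map_smul, hy, smul_eq_mul, smul_eq_mul, mul_one] at this
    rw [this, mul_comm k e]
  refine ⟨Y, e, μ y, hY ▸ hL.add hX (hL.neg (hL.lmul _)), he, fun h => he ?_, fun k => by rw [← hμ', hμ]⟩
  rw [hedef, ← hμ, hμ', h, zero_mul, zero_smul]

end CfsgLib.Classical22.SpField
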