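/-
An element outside the semilinear group gives a transvection over the ground field.
-/
import Cfsg.Agent.Lib.Classical22.SpField.Small
import Cfsg.Agent.Lib.Classical22.FieldMaxStart

set_option autoImplicit false
set_option linter.all false

namespace CfsgLib.Classical22.SpField

open Matrix CfsgLib.Transvec
open scoped MatrixGroups

variable {ι : Type} [Fintype ι] [DecidableEq ι] {F : Type*} [Field F] [Fintype F]
variable {K : Type*} [Field K] [Algebra F K] [Module K (ι → F)] [IsScalarTower F K (ι → F)]
variable [FiniteDimensional F K]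
variable {f : (ι → F) → (ι → F) → F} {β : LinearMap.BilinForm K (ι → F)} {M : Subgroup (GL ι F)}

/-- A transvection of `f` in the group. -/
def HasT (f : (ι → F) → (ι → F) → F) (M : Subgroup (GL ι F)) : Prop :=
  ∃ (v : ι → F) (μ : F), v ≠ 0 ∧ μ ≠ 0 ∧ sT f v μ ∈ M

namespace Over

variable (E : Over f β) (hM : LinIn β M)
include E hM

/-- A non-linear self-adjoint map on a line gives a transvection. -/
theorem hasT_of_uni (hr : Module.finrank F K = 2) {v : ι → F} (hv : v ≠ 0)
    {X : K →ₗ[F] K} (hX : Uni β M v X) (hs : Symm X) (hnl : ∃ k, X k ≠ X 1 * k) : HasT f M := by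
  have hL : Closed (K := K) (Uni β M v) :=
    ⟨uni_mul (E.alt v), uni_neg (E.alt v), E.uni_lmul hM v, fun c hc h => E.uni_scale hM hv h hc⟩
  obtain ⟨Y, e, μ, hY, he, hμ, hYk⟩ := rankOne_two hr hL hX hs hnl
  exact ⟨e • v, μ, smul_ne_zero he hv, hμ, E.sT_mem hYk hY⟩

end Over

end CfsgLib.Classical22.SpField
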