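/-
An element outside the semilinear group gives a transvection, for any prime degree.
-/
import Cfsg.Agent.Lib.Classical22.SpField.Start

set_option autoImplicit false
set_option linter.all false

namespace CfsgLib.Classical22.SpField

open Matrix CfsgLib.Transvec
open scoped MatrixGroups

variable {ι : Type} [Fintype ι] [DecidableEq ι] {F : Type*} [Field F] [Fintype F]
variable {K : Type*} [Field K] [Algebra F K] [Module K (ι → F)] [IsScalarTower F K (ι → F)]
variable [FiniteDimensional F K]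
variable {f : (ι → F) → (ι → F) → F} {β : LinearMap.BilinForm K (ι → F)} {M : Subgroup (GL ι F)}

omit [Fintype F] in
/-- A proper non-zero subspace is not stable under multiplication by an element outside the ground field. -/
theorem exists_mul_notMem (hr : (Module.finrank F K).Prime) {W : Submodule F K} (h1 : (1 : K) ∈ W) {k₀ : K}
    (hk₀ : k₀ ∉ W) {ρ : K} (hρ : ∀ c : F, algebraMap F K c ≠ ρ) : ∃ μ, μ ∈ W ∧ μ ≠ 0 ∧ ρ * μ ∉ W := by
  by_contra hc
  simp only [not_exists, not_and, not_not] at hc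
  let E : Subalgebra F K :=
    { carrier := {a | ∀ w ∈ W, a * w ∈ W}
      mul_mem' := fun {a b} ha hb w hw => by rw [mul_assoc]; exact ha _ (hb w hw)
      one_mem' := fun w hw => by rwa [one_mul]
      add_mem' := fun {a b} ha hb w hw => by rw [add_mul]; exact W.add_mem (ha w hw) (hb w hw)
      zero_mem' := fun w _ => by rw [zero_mul]; exact W.zero_mem
      algebraMap_mem' := fun c w hw => by rw [← Algebra.smul_def]; exact W.smul_mem c hw }
  haveI := Subalgebra.isSimpleOrder_of_finrank_prime F K hr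
  have hρE : ρ ∈ E := fun w hw => by
    by_cases hw0 : w = 0
    · rw [hw0, mul_zero]; exact W.zero_mem
    · exact hc w hw hw0
  rcases eq_bot_or_eq_top E with hE | hE
  · obtain ⟨c, hc'⟩ := Algebra.mem_bot.1 (hE ▸ hρE)
    exact hρ c hc'
  · have h2 := (hE ▸ Algebra.mem_top : k₀ ∈ E) 1 h1
    rw [mul_one] at h2
    exact hk₀ h2

/-- In odd prime degree over two elements, some non-zero element of a hyperplane through `1` has its
inverse outside it. -/
theorem exists_inv_one (hr : (Module.finrank F K).Prime) (hr2 : Module.finrank F K ≠ 2)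
    (hq : ∀ c : F, c = 0 ∨ c = 1) {φ : K →ₗ[F] F} (h1 : φ 1 = 0) {k₁ : K} (hk₁ : φ k₁ = 1) :
    ∃ e : K, e ≠ 0 ∧ φ e = 0 ∧ φ e⁻¹ = 1 := by
  classical
  haveI : Finite K := Module.finite_of_finite F
  by_contra hc
  simp only [not_exists, not_and] at hc
  have hinv : ∀ a, φ a = 0 → φ a⁻¹ = 0 := fun a ha => by
    by_cases ha0 : a = 0
    · rw [ha0, _root_.inv_zero, map_zero]
    · exact (hq _).resolve_right (hc a ha0 ha)
  have hua : ∀ a b, φ a = 0 → φ b = 0 → φ (a * a * b) = 0 := by
    intro a b ha hb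
    by_cases ha0 : a = 0
    · rw [ha0, zero_mul, zero_mul, map_zero]
    by_cases hb0 : b = 0
    · rw [hb0, mul_zero, map_zero]
    by_cases hab : a * b = 1
    · rw [mul_assoc, hab, mul_one, ha]
    have hd : b⁻¹ - a ≠ 0 := fun h => hab (by rw [← sub_eq_zero.1 h, inv_mul_cancel₀ hb0])
    have h2 : φ (a - (a⁻¹ + (b⁻¹ - a)⁻¹)⁻¹) = 0 := by
      rw [map_sub, ha, zero_sub, neg_eq_zero]
      refine hinv _ ?_
      rw [map_add, hinv a ha, zero_add]
      refine hinv _ ?_
      rw [map_sub, hinv b hb, ha, sub_zero]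
    have he : a - (a⁻¹ + (b⁻¹ - a)⁻¹)⁻¹ = a * a * b := by
      have h3 : a⁻¹ + (b⁻¹ - a)⁻¹ = b⁻¹ * (a * (b⁻¹ - a))⁻¹ := by field_simp; ring
      rw [h3, mul_inv, inv_inv, inv_inv]
      field_simp
      ring
    rwa [he] at h2
  have h20 : (2 : F) = 0 := (hq 2).resolve_right fun e => one_ne_zero (α := F) (by linear_combination e)
  have hmul : ∀ a b, φ a = 0 → φ b = 0 → φ (a * b) = 0 := by
    intro a b ha hb
    obtain ⟨s, hs⟩ : ∃ s : {x : K // φ x = 0} → {x : K // φ x = 0}, ∀ x, (s x).1 = x.1 * x.1 :=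
      ⟨fun x => ⟨x.1 * x.1, by have := hua x.1 1 x.2 h1; rwa [mul_one] at this⟩, fun x => rfl⟩
    have hinj : Function.Injective s := fun x y hxy => by
      have h := congrArg Subtype.val hxy
      rw [hs, hs] at h
      refine Subtype.ext ?_
      rcases mul_self_eq_mul_self_iff.1 h with h' | h'
      · exact h'
      · rw [h', neg_eq_iff_add_eq_zero, ← two_mul, ← map_ofNat (algebraMap F K) 2, h20, map_zero, zero_mul]
    obtain ⟨x, hx⟩ := Finite.injective_iff_surjective.1 hinj ⟨a, ha⟩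
    have h := congrArg Subtype.val hx
    rw [hs] at h
    have h' := hua x.1 b x.2 hb
    rwa [h] at h'
  let E : Subalgebra F K :=
    { carrier := {a | φ a = 0}
      mul_mem' := fun {a b} ha hb => hmul a b ha hb
      one_mem' := h1
      add_mem' := fun {a b} (ha : φ a = 0) (hb : φ b = 0) => show φ (a + b) = 0 by rw [map_add, ha, hb, add_zero]
      zero_mem' := map_zero φ
      algebraMap_mem' := fun c => show φ _ = 0 by
        rw [Algebra.algebraMap_eq_smul_one, map_smul, h1, smul_zero] }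
  haveI := Subalgebra.isSimpleOrder_of_finrank_prime F K hr
  rcases eq_bot_or_eq_top E with hE | hE
  · have hle : LinearMap.ker φ ≤ Submodule.span F {(1 : K)} := fun a ha => by
      obtain ⟨c, rfl⟩ := Algebra.mem_bot.1 (hE ▸ (show a ∈ E from LinearMap.mem_ker.1 ha))
      exact Submodule.mem_span_singleton.2 ⟨c, (Algebra.algebraMap_eq_smul_one c).symm⟩
    have h2 := Submodule.finrank_mono hle
    rw [finrank_span_singleton (one_ne_zero (α := K))] at h2
    have h3 := LinearMap.finrank_range_add_finrank_ker φ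
    have h4 := Submodule.finrank_le (LinearMap.range φ)
    rw [Module.finrank_self] at h4
    have := hr.two_le
    omega
  · have : φ k₁ = 0 := (hE ▸ Algebra.mem_top : k₁ ∈ E)
    rw [hk₁] at this
    exact one_ne_zero this

namespace Over

variable (E : Over f β)
include E

omit [Fintype F] [FiniteDimensional F K] in
/-- Separation of a vector from a subspace over `K`. -/
lemma exists_sep {P : Submodule K (ι → F)} {x : ι → F} (hx : x ∉ P) :
    ∃ u, (∀ p ∈ P, β p u = 0) ∧ β x u = 1 := by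
  haveI := FieldMax.finiteK (ι := ι) (F := F) (K := K)
  obtain ⟨ψ, hψ, hψx⟩ := FieldMax.exists_kfun hx
  have hinj : Function.Injective β.flip := (injective_iff_map_eq_zero _).2 fun u hu => by
    by_contra hne
    obtain ⟨y, hy⟩ := E.nd_right hne
    exact hy (LinearMap.congr_fun hu y)
  obtain ⟨u, hu⟩ := (LinearMap.injective_iff_surjective_of_finrank_eq_finrank
    (Subspace.dual_finrank_eq).symm).1 hinj ψ
  refine ⟨u, fun p hp => ?_, ?_⟩
  · rw [← hψ p hp, ← hu]; rfl
  · rw [← hψx, ← hu]; rfl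

variable (hM : LinIn β M)
include hM

/-- A scalable nilpotent map from a transvection. -/
lemma nilp_kS (v : ι → F) (c : K) : ∃ N : (ι → F) →ₗ[K] (ι → F), (∀ x, N x = (c * β x v) • v) ∧
    N v = 0 ∧ (∀ x, N (N x) = 0) ∧ ∀ l : F, ∃ h ∈ M, ∀ x, (h : Matrix ι ι F) *ᵥ x = x + l • N x := by
  refine ⟨(c • β.flip v).smulRight v, fun x => by simp, by simp [E.alt], fun x => by simp [E.alt], fun l => ?_⟩
  obtain ⟨h, hh, -, -, he⟩ := E.exists_kS hM v (algebraMap F K l * c)
  refine ⟨h, hh, fun x => ?_⟩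
  rw [he, mul_assoc, mul_smul, algebraMap_smul]
  simp

/-- A scalable nilpotent map from a short root element. -/
lemma nilp_kR {v u : ι → F} (hu : β v u = 0) : ∃ N : (ι → F) →ₗ[K] (ι → F),
    (∀ x, N x = β x v • u + β x u • v) ∧ N v = 0 ∧ (∀ x, N (N x) = 0) ∧
      ∀ l : F, ∃ h ∈ M, ∀ x, (h : Matrix ι ι F) *ᵥ x = x + l • N x := by
  refine ⟨(β.flip v).smulRight u + (β.flip u).smulRight v, fun x => by simp, by simp [E.alt, hu],
    fun x => by simp [E.alt, hu, E.perp_zero hu], fun l => ?_⟩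
  obtain ⟨h, hh, -, -, he⟩ := E.exists_kR hM (v := v) (u := algebraMap F K l • u) (by rw [map_smul, hu, smul_zero])
  refine ⟨h, hh, fun x => ?_⟩
  rw [he, map_smul, smul_eq_mul]
  simp only [LinearMap.add_apply, LinearMap.smulRight_apply, LinearMap.BilinForm.flip_apply]
  rw [← algebraMap_smul K l (β x v • u + β x u • v)]
  module

/-- The last step: an element acting on the line as a rank one perturbation of the identity. -/
theorem hasT_of_rank_one (hiso : ∀ g ∈ M, Iso f g) (hr : (Module.finrank F K).Prime)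
    (hq : Module.finrank F K = 2 → ∃ l : F, l ≠ 0 ∧ l ≠ 1) {v : ι → F} (hv : v ≠ 0) {φ : K →ₗ[F] F}
    (hφ1 : φ 1 = 0) {k₁ : K} (hk₁ : φ k₁ = 1)
    (hy : ∀ l : F, ∃ h ∈ M, ∀ k : K, (h : Matrix ι ι F) *ᵥ (k • v) = k • v + (l * φ k) • v) : HasT f M := by
  classical
  haveI : Finite K := Module.finite_of_finite F
  obtain ⟨p, hp⟩ : ∃ p : K, ∀ k, Algebra.trace F K (p * k) = φ k := by
    obtain ⟨p, hp⟩ := ((Algebra.traceForm F K).toDual (traceForm_nondegenerate F K)).surjective φ
    exact ⟨p, fun k => by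
      rw [← Algebra.traceForm_apply, ← LinearMap.BilinForm.toDual_def (b := traceForm_nondegenerate F K), hp]⟩
  have hp0 : p ≠ 0 := fun h => by
    have := hp k₁
    rw [h, zero_mul, map_zero, hk₁] at this
    exact zero_ne_one this
  obtain ⟨X, hX⟩ : ∃ X : F → K → K →ₗ[F] K, ∀ l c t, X l c t = c * t + (l * Algebra.trace F K t) • (c * p) +
      (algebraMap F K (l * Algebra.trace F K (p * (c * t))) +
        algebraMap F K (l * l * Algebra.trace F K t * Algebra.trace F K (p * (c * p)))) := by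
    refine ⟨fun l c => LinearMap.mulLeft F c + (l • Algebra.trace F K).smulRight (c * p) +
      (Algebra.linearMap F K ∘ₗ (l • Algebra.trace F K) ∘ₗ LinearMap.mulLeft F p ∘ₗ LinearMap.mulLeft F c +
        (Algebra.trace F K (p * (c * p))) • (Algebra.linearMap F K ∘ₗ ((l * l) • Algebra.trace F K))),
      fun l c t => ?_⟩
    simp [Algebra.smul_def]
    ring
  have hUX : ∀ l c, Uni β M v (X l c) := by
    intro l c
    obtain ⟨y, hyM, hyk⟩ := hy l
    obtain ⟨h, hh, -, -, he⟩ := E.exists_kS hM v c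
    refine ⟨y * h * y⁻¹, M.mul_mem (M.mul_mem hyM hh) (M.inv_mem hyM), fun x => ?_⟩
    have hb : β (((y⁻¹ : GL ι F) : Matrix ι ι F) *ᵥ x) v =
        β x v + (l * Algebra.trace F K (β x v)) • p := by
      refine sub_eq_zero.1 ((traceForm_nondegenerate F K).1 _ fun k => ?_)
      have h1 := hiso y hyM (((y⁻¹ : GL ι F) : Matrix ι ι F) *ᵥ x) (k • v)
      rw [mulVec_inv_cancel, hyk, add_right' E.symp, smul_right' E.symp, E.form, E.form, E.form,
        LinearMap.map_smul (β x), LinearMap.map_smul (β _), smul_eq_mul, smul_eq_mul] at h1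
      rw [Algebra.traceForm_apply, sub_mul, map_sub, sub_eq_zero, add_mul, smul_mul_assoc, map_add, map_smul,
        smul_eq_mul, hp, mul_comm _ k, mul_comm (β x v) k, ← h1]
      ring
    rw [mul_mulVec, mul_mulVec, he, hb, mulVec_add, mulVec_inv_cancel, hyk, ← hp, hX, mul_add, mul_smul_comm]
    congr 1
    simp only [add_smul, map_add, algebraMap_smul, mul_add p, mul_smul_comm, map_smul, smul_eq_mul]
    module
  by_cases hbig : ∃ l : F, l ≠ 0 ∧ l ≠ 1
  · obtain ⟨l, hl0, hl1⟩ := hbig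
    obtain ⟨c₀, hc₀⟩ := Algebra.trace_surjective F K 1
    obtain ⟨c, hc⟩ : ∃ c, c = c₀ / (p * p) := ⟨_, rfl⟩
    have hcp : Algebra.trace F K (p * (c * p)) = 1 := by
      rw [show p * (c * p) = c₀ by rw [hc]; field_simp, hc₀]
    have h1 := uni_mul (E.alt v) (hUX l c) (uni_neg (E.alt v)
      (uni_mul (E.alt v) (E.uni_lmul hM v c) (uni_mul (E.alt v) (hUX 1 (algebraMap F K l * c))
        (uni_neg (E.alt v) (E.uni_lmul hM v (algebraMap F K l * c))))))
    refine ⟨v, l * l - l, hv, fun h => ?_, ?_⟩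
    · exact (mul_eq_zero.1 (show l * (l - 1) = 0 by linear_combination h)).elim hl0 fun e => hl1 (sub_eq_zero.1 e)
    rw [← one_smul K v]
    refine E.sT_mem (fun t => ?_) h1
    have e1 : ∀ s : K, Algebra.trace F K (p * (algebraMap F K l * c * s)) = l * Algebra.trace F K (p * (c * s)) :=
      fun s => by
        rw [show p * (algebraMap F K l * c * s) = l • (p * (c * s)) by rw [Algebra.smul_def]; ring, map_smul,
          smul_eq_mul]
    simp only [LinearMap.add_apply, LinearMap.neg_apply, LinearMap.mulLeft_apply, hX, e1, hcp, one_mul, mul_one,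
      Algebra.smul_def, map_mul, map_sub]
    ring
  have hq01 : ∀ c : F, c = 0 ∨ c = 1 := fun c => by
    by_contra h
    exact hbig ⟨c, fun e => h (Or.inl e), fun e => h (Or.inr e)⟩
  have hr2 : Module.finrank F K ≠ 2 := fun h => hbig (hq h)
  have h20 : (2 : F) = 0 := (hq01 2).resolve_right fun e => one_ne_zero (α := F) (by linear_combination e)
  have h2K : (2 : K) = 0 := by rw [← map_ofNat (algebraMap F K) 2, h20, map_zero]
  obtain ⟨e, he0, he, hei⟩ := exists_inv_one hr hr2 hq01 hφ1 hk₁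
  have hD : ∀ a : K, Uni β M v (X 1 (a / p) + -LinearMap.mulLeft F (a / p)) := fun a =>
    uni_mul (E.alt v) (hUX 1 _) (uni_neg (E.alt v) (E.uni_lmul hM v _))
  have hsum := uni_mul (E.alt v) (hD e) (E.uni_scale hM hv (hD e⁻¹) he0)
  refine ⟨e • v, 1, smul_ne_zero he0 hv, one_ne_zero, E.sT_mem (fun t => ?_) hsum⟩
  have e2 : ∀ a s : K, p * (a / p * s) = a * s := fun a s => by field_simp
  simp only [LinearMap.add_apply, LinearMap.neg_apply, LinearMap.comp_apply, LinearMap.mulLeft_apply, hX, e2,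
    one_mul, div_mul_cancel₀ _ hp0]
  rw [← mul_assoc e⁻¹ e t, inv_mul_cancel₀ he0, one_mul, hp e, hp e⁻¹, he, hei]
  simp only [mul_zero, map_zero, mul_one, Algebra.smul_def]
  linear_combination (algebraMap F K (Algebra.trace F K t) * e + algebraMap F K (Algebra.trace F K (e * t))) * h2K +
    algebraMap F K (Algebra.trace F K (e * t)) * mul_inv_cancel₀ he0

/-- An element fixing `v` but not its line. -/
theorem hasT_gen (hiso : ∀ g ∈ M, Iso f g) (hr : (Module.finrank F K).Prime)
    (hq : Module.finrank F K = 2 → ∃ l : F, l ≠ 0 ∧ l ≠ 1) {v : ι → F} (hv : v ≠ 0) (j : ℕ) :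
    ∀ y ∈ M, (y : Matrix ι ι F) *ᵥ v = v → (∃ k : K, (y : Matrix ι ι F) *ᵥ (k • v) ∉ Submodule.span K {v}) →
      Module.finrank F K ≤ j + Module.finrank F
        ↥(FieldMax.kLine (K := K) v ⊓ (FieldMax.kLine (K := K) v).comap (Matrix.toLin' (y : Matrix ι ι F))) →
      HasT f M := by
  classical
  haveI : Finite K := Module.finite_of_finite F
  induction j with
  | zero =>
    intro y _ _ ⟨k, hk⟩ hd
    exfalso
    have hle := Submodule.eq_of_le_of_finrank_le
      (inf_le_left : FieldMax.kLine (K := K) v ⊓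
        (FieldMax.kLine (K := K) v).comap (Matrix.toLin' (y : Matrix ι ι F)) ≤ _)
      (by rw [FieldMax.finrank_kLine hv]; omega)
    have hm : k • v ∈ FieldMax.kLine (K := K) v ⊓
        (FieldMax.kLine (K := K) v).comap (Matrix.toLin' (y : Matrix ι ι F)) := by
      rw [hle]
      exact Submodule.smul_mem _ k (Submodule.mem_span_singleton_self v)
    exact hk hm.2
  | succ j ih =>
    intro y hy hyv ⟨k₀, hk₀⟩ hd
    obtain ⟨zf, hzf⟩ : ∃ zf : K →ₗ[F] (ι → F), ∀ k, zf k = ((y⁻¹ : GL ι F) : Matrix ι ι F) *ᵥ (k • v) :=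
      ⟨Matrix.toLin' ((y⁻¹ : GL ι F) : Matrix ι ι F) ∘ₗ (LinearMap.toSpanSingleton K (ι → F) v).restrictScalars F,
        fun k => rfl⟩
    have hyz : ∀ k, (y : Matrix ι ι F) *ᵥ zf k = k • v := fun k => by rw [hzf, mulVec_inv_cancel]
    obtain ⟨k₁, hk₁⟩ : ∃ k₁ : K, zf k₁ ∉ Submodule.span K {v} := by
      by_contra hc
      push Not at hc
      choose g hg using fun l => Submodule.mem_span_singleton.1 (hc l)
      have hinj : Function.Injective g := fun a b hab => smul_left_injective K hv (by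
        show a • v = b • v
        rw [← hyz a, ← hyz b, ← hg a, ← hg b, hab])
      obtain ⟨l, hl⟩ := Finite.injective_iff_surjective.1 hinj k₀
      refine hk₀ ?_
      rw [← hl, hg, hyz]
      exact Submodule.smul_mem _ l (Submodule.mem_span_singleton_self v)
    obtain ⟨W, hW⟩ : ∃ W : Submodule F K, ∀ a, a ∈ W ↔ (y : Matrix ι ι F) *ᵥ (a • v) ∈ Submodule.span K {v} :=
      ⟨(FieldMax.kLine (K := K) v).comap (Matrix.toLin' (y : Matrix ι ι F) ∘ₗ
        (LinearMap.toSpanSingleton K (ι → F) v).restrictScalars F), fun a => Iff.rfl⟩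
    have h1W : (1 : K) ∈ W := (hW 1).2 (by rw [one_smul, hyv]; exact Submodule.mem_span_singleton_self v)
    have hk₀W : k₀ ∉ W := fun h => hk₀ ((hW k₀).1 h)
    have hyinv : ((y⁻¹ : GL ι F) : Matrix ι ι F) *ᵥ v = v := by
      conv_lhs => rw [← hyv, inv_mulVec_cancel]
    -- consequences of a nilpotent map sending `zf a` to `μ • v`
    have core : ∀ (a μ : K) (N : (ι → F) →ₗ[K] (ι → F)), zf a ∉ Submodule.span K {v} → N v = 0 →
        (∀ x, N (N x) = 0) → (∀ l : F, ∃ h ∈ M, ∀ x, (h : Matrix ι ι F) *ᵥ x = x + l • N x) →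
        N (zf a) = μ • v → μ ∈ W →
        ∃ b : (ι → F) →ₗ[F] (ι → F), (∀ k : K, b (k • v) = (y : Matrix ι ι F) *ᵥ N (zf k)) ∧ b v = 0 ∧
          (∀ l : F, ∃ h ∈ M, ∀ x : ι → F, (h : Matrix ι ι F) *ᵥ x = x + l • b x) ∧
          ((∃ k : K, b (k • v) ∉ Submodule.span K {v}) → HasT f M) := by
      intro a μ N ha hNv hNN hNM hNa hμ
      obtain ⟨b, hb⟩ : ∃ b : (ι → F) →ₗ[F] (ι → F), b = Matrix.toLin' (y : Matrix ι ι F) ∘ₗ N.restrictScalars F ∘ₗ
          Matrix.toLin' ((y⁻¹ : GL ι F) : Matrix ι ι F) := ⟨_, rfl⟩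
      have hbx : ∀ x, b x = (y : Matrix ι ι F) *ᵥ N (((y⁻¹ : GL ι F) : Matrix ι ι F) *ᵥ x) := fun x => by
        rw [hb]; rfl
      have hbk : ∀ k, b (k • v) = (y : Matrix ι ι F) *ᵥ N (zf k) := fun k => by rw [hbx, hzf]
      have hbv : b v = 0 := by rw [hbx, hyinv, hNv, mulVec_zero]
      have hyl : ∀ l : F, ∃ h ∈ M, ∀ x, (h : Matrix ι ι F) *ᵥ x = x + l • b x := fun l => by
        obtain ⟨h, hh, he⟩ := hNM l
        refine ⟨y * h * y⁻¹, M.mul_mem (M.mul_mem hy hh) (M.inv_mem hy), fun x => ?_⟩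
        rw [mul_mulVec, mul_mulVec, he, mulVec_add, mulVec_inv_cancel, mulVec_smul, hbx]
      refine ⟨b, hbk, hbv, hyl, fun ⟨k, hk⟩ => ?_⟩
      obtain ⟨y', hy'M, hy'x⟩ := hyl 1
      simp only [one_smul] at hy'x
      have hy'v : (y' : Matrix ι ι F) *ᵥ v = v := by rw [hy'x, hbv, add_zero]
      refine ih y' hy'M hy'v ⟨k, fun h => hk ?_⟩ ?_
      · have := Submodule.sub_mem _ h (Submodule.smul_mem _ k (Submodule.mem_span_singleton_self v))
        rwa [hy'x, add_sub_cancel_left] at this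
      have e : (FieldMax.kLine (K := K) v ⊓
          (FieldMax.kLine (K := K) v).comap (Matrix.toLin' (y : Matrix ι ι F))).map
          (Matrix.toLin' (y : Matrix ι ι F)) < FieldMax.kLine (K := K) v ⊓
            (FieldMax.kLine (K := K) v).comap (Matrix.toLin' (y' : Matrix ι ι F)) := by
        refine lt_of_le_of_ne ?_ fun he => ?_
        · rintro _ ⟨w, ⟨hw, hyw⟩, rfl⟩
          refine ⟨hyw, ?_⟩
          change (y' : Matrix ι ι F) *ᵥ ((y : Matrix ι ι F) *ᵥ w) ∈ Submodule.span K {v}
          obtain ⟨c, hc⟩ := Submodule.mem_span_singleton.1 hw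
          rw [hy'x, hbx, inv_mulVec_cancel, ← hc, map_smul, hNv, smul_zero, mulVec_zero, add_zero, hc]
          exact hyw
        · have hm : a • v ∈ FieldMax.kLine (K := K) v ⊓
              (FieldMax.kLine (K := K) v).comap (Matrix.toLin' (y' : Matrix ι ι F)) := by
            refine ⟨Submodule.smul_mem _ a (Submodule.mem_span_singleton_self v), ?_⟩
            change (y' : Matrix ι ι F) *ᵥ (a • v) ∈ Submodule.span K {v}
            rw [hy'x, hbk, hNa]
            exact Submodule.add_mem _ (Submodule.smul_mem _ a (Submodule.mem_span_singleton_self v)) ((hW μ).1 hμ)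
          rw [← he] at hm
          obtain ⟨w, ⟨hw, -⟩, hwk⟩ := hm
          rw [Matrix.toLin'_apply] at hwk
          refine ha ?_
          rw [hzf, ← hwk, inv_mulVec_cancel]
          exact hw
      have h1 := Submodule.finrank_lt_finrank_of_lt e
      rw [← (Submodule.equivMapOfInjective (Matrix.toLin' (y : Matrix ι ι F))
        (fun a b h => mulVec_injective y (by simpa using h)) _).finrank_eq] at h1
      omega
    by_cases hone : ∀ k, ∃ c : F, zf (k - c • k₁) ∈ Submodule.span K {v}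
    · -- the moved part is one-dimensional
      obtain ⟨N, hNv, hNN, hNM, hNz⟩ : ∃ N : (ι → F) →ₗ[K] (ι → F), N v = 0 ∧ (∀ x, N (N x) = 0) ∧
          (∀ l : F, ∃ h ∈ M, ∀ x, (h : Matrix ι ι F) *ᵥ x = x + l • N x) ∧ N (zf k₁) = v := by
        by_cases hzv : β (zf k₁) v = 0
        · obtain ⟨u, hu, huz⟩ := E.exists_sep hk₁
          obtain ⟨N, hN, h1, h2, h3⟩ := E.nilp_kR hM (hu v (Submodule.mem_span_singleton_self v))
          exact ⟨N, h1, h2, h3, by rw [hN, hzv, huz, zero_smul, zero_add, one_smul]⟩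
        · obtain ⟨N, hN, h1, h2, h3⟩ := E.nilp_kS hM v (β (zf k₁) v)⁻¹
          exact ⟨N, h1, h2, h3, by rw [hN, inv_mul_cancel₀ hzv, one_smul]⟩
      obtain ⟨b, hbk, hbv, hyl, -⟩ := core k₁ 1 N hk₁ hNv hNN hNM (by rw [hNz, one_smul]) h1W
      choose cf hcf using hone
      have hbc : ∀ k, b (k • v) = cf k • v := fun k => by
        obtain ⟨a, ha⟩ := Submodule.mem_span_singleton.1 (hcf k)
        have hz : zf k = cf k • zf k₁ + a • v := by rw [ha, map_sub, map_smul, add_sub_cancel]
        rw [hbk, hz, map_add, LinearMap.map_smul_of_tower, map_smul, hNz, hNv, smul_zero, add_zero, mulVec_smul, hyv]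
      have huniq : ∀ a c : F, a • v = c • v → a = c := fun a c h => smul_left_injective F hv h
      obtain ⟨φ, hφ⟩ : ∃ φ : K →ₗ[F] F, ∀ k, φ k = cf k :=
        ⟨{ toFun := cf
           map_add' := fun a c => huniq _ _ (by rw [← hbc, add_smul, map_add, hbc, hbc, add_smul])
           map_smul' := fun c a => huniq _ _ (by
             rw [← hbc, smul_assoc, map_smul, hbc, smul_smul, RingHom.id_apply, smul_eq_mul]) }, fun _ => rfl⟩
      refine E.hasT_of_rank_one hM hiso hr hq hv (φ := φ)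
        (huniq _ _ (by rw [hφ, ← hbc, one_smul, hbv, zero_smul])) (k₁ := k₁)
        (huniq _ _ (by rw [hφ, ← hbc, hbk, hNz, hyv, one_smul])) fun l => ?_
      obtain ⟨h, hh, he⟩ := hyl l
      exact ⟨h, hh, fun k => by rw [he, hbc, hφ, smul_smul]⟩
    push Not at hone
    obtain ⟨k₂, hk₂⟩ := hone
    -- an adapted pair
    obtain ⟨a, a', ha, haa', hcase⟩ : ∃ a a', zf a ∉ Submodule.span K {v} ∧
        (∀ c : F, zf (a' - c • a) ∉ Submodule.span K {v}) ∧
        (β (zf a) v = 0 ∨ ∀ c : F, algebraMap F K c ≠ β (zf a') v / β (zf a) v) := by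
      by_cases hb : β (zf k₁) v = 0
      · exact ⟨k₁, k₂, hk₁, hk₂, Or.inl hb⟩
      by_cases hρ : ∀ c : F, algebraMap F K c ≠ β (zf k₂) v / β (zf k₁) v
      · exact ⟨k₁, k₂, hk₁, hk₂, Or.inr hρ⟩
      push Not at hρ
      obtain ⟨c, hc⟩ := hρ
      refine ⟨k₂ - c • k₁, k₁, hk₂ c, fun c' h => ?_, Or.inl ?_⟩
      · by_cases hc' : c' = 0
        · exact hk₁ (by rwa [hc', zero_smul, sub_zero] at h)
        refine hk₂ (c + c'⁻¹) ?_
        have e : k₂ - (c + c'⁻¹) • k₁ = (-c'⁻¹) • (k₁ - c' • (k₂ - c • k₁)) := by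
          match_scalars <;> field_simp <;> ring
        rw [e, map_smul]
        exact Submodule.smul_of_tower_mem _ _ h
      · rw [map_sub, map_smul, LinearMap.map_sub₂, ← algebraMap_smul K c, LinearMap.map_smul₂, hc, smul_eq_mul,
          div_mul_cancel₀ _ hb, sub_self]
    have move : ∀ (N : (ι → F) →ₗ[K] (ι → F)) (μ : K), N v = 0 → (∀ x, N (N x) = 0) →
        (∀ l : F, ∃ h ∈ M, ∀ x, (h : Matrix ι ι F) *ᵥ x = x + l • N x) → N (zf a) = μ • v → μ ∈ W →
        (y : Matrix ι ι F) *ᵥ N (zf a') ∉ Submodule.span K {v} → HasT f M := by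
      intro N μ hNv hNN hNM hNa hμ hout
      obtain ⟨b, hbk, -, -, hfin⟩ := core a μ N ha hNv hNN hNM hNa hμ
      exact hfin ⟨a', hbk a' ▸ hout⟩
    by_cases hz : β (zf a) v = 0
    swap
    · obtain ⟨μ, hμ, -, hμ'⟩ := exists_mul_notMem hr h1W hk₀W (hcase.resolve_left hz)
      obtain ⟨N, hN, h1, h2, h3⟩ := E.nilp_kS hM v (μ / β (zf a) v)
      refine move N μ h1 h2 h3 (by rw [hN, div_mul_cancel₀ _ hz]) hμ fun h => hμ' ((hW _).2 ?_)
      rwa [hN, show μ / β (zf a) v * β (zf a') v = β (zf a') v / β (zf a) v * μ by ring] at h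
    by_cases hz' : β (zf a') v = 0
    · by_cases hin : zf a' ∈ Submodule.span K {v, zf a}
      · obtain ⟨γ, ρ, hρ⟩ := Submodule.mem_span_pair.1 hin
        obtain ⟨μ, hμ, -, hμ'⟩ := exists_mul_notMem hr h1W hk₀W (ρ := ρ) fun c hc => haa' c (by
          rw [map_sub, map_smul, ← hρ, ← hc, algebraMap_smul, add_sub_cancel_right]
          exact Submodule.smul_mem _ γ (Submodule.mem_span_singleton_self v))
        obtain ⟨u, hu, huz⟩ := E.exists_sep ha
        have hvu : β v (μ • u) = 0 := by rw [map_smul, hu v (Submodule.mem_span_singleton_self v), smul_zero]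
        obtain ⟨N, hN, h1, h2, h3⟩ := E.nilp_kR hM hvu
        have hNa : N (zf a) = μ • v := by rw [hN, hz, zero_smul, zero_add, map_smul, huz, smul_eq_mul, mul_one]
        refine move N μ h1 h2 h3 hNa hμ fun h => hμ' ((hW _).2 ?_)
        rwa [← hρ, map_add, map_smul, map_smul, h1, smul_zero, zero_add, hNa, smul_smul] at h
      · have ha2 : zf a ∉ Submodule.span K {v, zf a'} := fun h => by
          obtain ⟨s, t, hst⟩ := Submodule.mem_span_pair.1 h
          by_cases ht : t = 0
          · exact ha (Submodule.mem_span_singleton.2 ⟨s, by rw [← hst, ht, zero_smul, add_zero]⟩)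
          refine hin (Submodule.mem_span_pair.2 ⟨-(t⁻¹ * s), t⁻¹, ?_⟩)
          rw [← hst, smul_add, smul_smul, smul_smul, inv_mul_cancel₀ ht, one_smul, neg_smul, neg_add_cancel_left]
        obtain ⟨u₁, hu₁, hu₁a⟩ := E.exists_sep ha2
        obtain ⟨u₂, hu₂, hu₂a⟩ := E.exists_sep hin
        have hvu : β v (u₁ + k₀ • u₂) = 0 := by
          rw [map_add, map_smul, hu₁ v (Submodule.subset_span (by simp)), hu₂ v (Submodule.subset_span (by simp)),
            smul_zero, add_zero]
        obtain ⟨N, hN, h1, h2, h3⟩ := E.nilp_kR hM hvu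
        refine move N 1 h1 h2 h3 ?_ h1W ?_
        · rw [hN, hz, zero_smul, zero_add, map_add, map_smul, hu₁a, hu₂ _ (Submodule.subset_span (by simp)),
            smul_zero, add_zero]
        · rw [hN, hz', zero_smul, zero_add, map_add, map_smul, hu₁ _ (Submodule.subset_span (by simp)), hu₂a,
            smul_eq_mul, mul_one, zero_add]
          exact hk₀
    -- mixed case
    obtain ⟨u, hu, huz⟩ := E.exists_sep ha
    have hvu : ∀ k : K, β v (u + k • zf a) = 0 := fun k => by
      rw [map_add, map_smul, hu v (Submodule.mem_span_singleton_self v), E.perp_zero hz, smul_zero, add_zero]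
    by_contra hno
    have hall : ∀ k : K, ∃ l, β (zf a') v • (u + k • zf a) + β (zf a') (u + k • zf a) • v = zf l := fun k => by
      obtain ⟨N, hN, h1, h2, h3⟩ := E.nilp_kR hM (hvu k)
      have hin : (y : Matrix ι ι F) *ᵥ N (zf a') ∈ Submodule.span K {v} := by
        by_contra h
        refine hno (move N 1 h1 h2 h3 ?_ h1W h)
        rw [hN, hz, zero_smul, zero_add, map_add, map_smul, E.alt, smul_zero, add_zero, huz]
      obtain ⟨l, hl⟩ := Submodule.mem_span_singleton.1 hin
      exact ⟨l, by rw [← hN]; exact mulVec_injective y (by simp only [hyz, hl])⟩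
    choose lf hlf using hall
    obtain ⟨D, hD⟩ : ∃ D, D = β (zf a') v • zf a + β (zf a') (zf a) • v := ⟨_, rfl⟩
    have hDl : ∀ k, k • D = zf (lf k - lf 0) := fun k => by
      rw [map_sub, ← hlf, ← hlf, hD, map_add, map_add, map_smul, map_smul, smul_eq_mul, smul_eq_mul]
      module
    have hD0 : D ∉ Submodule.span K {v} := fun h => ha (by
      have h' := Submodule.sub_mem _ h (Submodule.smul_mem _ (β (zf a') (zf a)) (Submodule.mem_span_singleton_self v))
      rw [hD, add_sub_cancel_right] at h'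
      exact (Submodule.smul_mem_iff _ hz').1 h')
    have hDne : D ≠ 0 := fun h => hD0 (h ▸ Submodule.zero_mem _)
    have hinj : Function.Injective fun k => lf k - lf 0 := fun k k' h => smul_left_injective K hDne (by
      simp only [hDl]; exact congrArg zf h)
    obtain ⟨k, hk⟩ := Finite.injective_iff_surjective.1 hinj 1
    have h1 := hDl k
    simp only at hk
    rw [hk, show zf 1 = v by rw [hzf, one_smul, hyinv]] at h1
    have hkne : k ≠ 0 := fun e => hv (by rw [← h1, e, zero_smul])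
    exact hD0 (Submodule.mem_span_singleton.2 ⟨k⁻¹, by rw [← h1, inv_smul_smul₀ hkne]⟩)

end Over

end CfsgLib.Classical22.SpField
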