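/-
Maximality of a symplectic group over an extension field of prime degree.
-/
import Cfsg.Agent.Lib.Classical22.SpField.Gen
import Cfsg.Agent.Lib.Classical22.UnitOverFinal
import Cfsg.Agent.Lib.Transvec.Stabilizer

set_option autoImplicit false
set_option linter.all false

namespace CfsgLib.Classical22.SpField

open Matrix CfsgLib.Transvec
open scoped MatrixGroups

variable {ι : Type} [Fintype ι] [DecidableEq ι] {F : Type*} [Field F] [Fintype F]
variable {K : Type*} [Field K] [Algebra F K] [Module K (ι → F)] [IsScalarTower F K (ι → F)]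
variable [FiniteDimensional F K]
variable {f : (ι → F) → (ι → F) → F} {β : LinearMap.BilinForm K (ι → F)} {M : Subgroup (GL ι F)}

/-- A self-adjoint field of operators makes `f` the trace of an alternating form. -/
theorem exists_over (hf : Cfsg.Geo.IsSymplecticForm f) (hsa : ∀ (k : K) x y, f (k • x) y = f x (k • y))
    (halt : ∀ (k : K) x, f (k • x) x = 0) : ∃ β : LinearMap.BilinForm K (ι → F), Over f β := by
  haveI : Finite K := Module.finite_of_finite F
  have hT := traceForm_nondegenerate F K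
  have hex : ∀ x y, ∃ b : K, ∀ k, Algebra.trace F K (b * k) = f (k • x) y := fun x y => by
    obtain ⟨b, hb⟩ := ((Algebra.traceForm F K).toDual hT).surjective
      { toFun := fun k => f (k • x) y
        map_add' := fun a b => by rw [add_smul, add_left' hf]
        map_smul' := fun c a => by rw [smul_assoc, smul_left' hf, RingHom.id_apply, smul_eq_mul] }
    exact ⟨b, fun k => by rw [← Algebra.traceForm_apply, ← LinearMap.BilinForm.toDual_def (b := hT), hb]; rfl⟩
  choose b hb using hex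
  have huniq : ∀ a c : K, (∀ k, Algebra.trace F K (a * k) = Algebra.trace F K (c * k)) → a = c := fun a c h =>
    sub_eq_zero.1 (hT.1 _ fun k => by rw [Algebra.traceForm_apply, sub_mul, map_sub, h, sub_self])
  refine ⟨LinearMap.mk₂ K b (fun x x' y => huniq _ _ fun k => ?_) (fun c x y => huniq _ _ fun k => ?_)
    (fun x y y' => huniq _ _ fun k => ?_) (fun c x y => huniq _ _ fun k => ?_),
    ⟨hf, fun x => ?_, fun x hx => ?_, fun x y => ?_⟩⟩
  · rw [add_mul, map_add, hb, hb, hb, smul_add, add_left' hf]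
  · rw [hb, smul_eq_mul, mul_comm c, mul_assoc, hb, smul_smul, mul_comm k]
  · rw [add_mul, map_add, hb, hb, hb, add_right' hf]
  · rw [hb, smul_eq_mul, mul_comm c, mul_assoc, hb, ← hsa, smul_smul]
  · refine huniq _ 0 fun k => ?_
    rw [LinearMap.mk₂_apply, hb, halt, zero_mul, map_zero]
  · obtain ⟨y, hy⟩ := (hf.nondegenerate x hx).2
    refine ⟨y, fun h => hy ?_⟩
    rw [LinearMap.mk₂_apply] at h
    have := hb x y 1
    rw [h, zero_mul, map_zero, one_smul] at this
    exact this.symm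
  · rw [LinearMap.mk₂_apply]
    have := hb x y 1
    rwa [mul_one, one_smul, eq_comm] at this

namespace Over

variable (E : Over f β) (hM : LinIn β M)
include E

omit [Fintype F] [FiniteDimensional F K] in
lemma exists_dual {v z : ι → F} (hv : v ≠ 0) (hz : z ∉ Submodule.span K {v}) :
    ∃ u, β v u = 0 ∧ β z u = 1 := by
  by_contra hc
  simp only [not_exists, not_and] at hc
  obtain ⟨w, hw⟩ := E.nd v hv
  refine hz (Submodule.mem_span_singleton.2 ⟨β z w / β v w, (sub_eq_zero.1 ?_).symm⟩)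
  by_contra hne
  obtain ⟨x, hx⟩ := E.nd _ hne
  obtain ⟨x', hx'⟩ : ∃ x', x' = x - (β v x / β v w) • w := ⟨_, rfl⟩
  have h1 : β v x' = 0 := by rw [hx', map_sub, map_smul, smul_eq_mul, div_mul_cancel₀ _ hw, sub_self]
  have h2 : β z x' = 0 := by
    by_contra h0
    exact hc ((β z x')⁻¹ • x') (by rw [map_smul, h1, smul_zero]) (by rw [map_smul, smul_eq_mul, inv_mul_cancel₀ h0])
  rw [hx', map_sub, map_smul, smul_eq_mul, sub_eq_zero] at h2
  refine hx ?_
  rw [LinearMap.map_sub₂, LinearMap.map_smul₂, h2, smul_eq_mul]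
  field_simp
  ring

include hM

/-- The corner: the field of four elements over the field of two elements. -/
theorem hasT_four (hr : Module.finrank F K = 2) (hq : ∀ c : F, c = 0 ∨ c = 1)
    (h3 : ∀ v w : ι → F, ∃ u, u ≠ 0 ∧ β u v = 0 ∧ β u w = 0) (hiso : ∀ g ∈ M, Iso f g) {v : ι → F} (hv : v ≠ 0)
    {y : GL ι F} (hy : y ∈ M) (hyv : (y : Matrix ι ι F) *ᵥ v = v) {ω : K}
    (hω : (y : Matrix ι ι F) *ᵥ (ω • v) ∉ Submodule.span K {v}) : HasT f M := by
  classical
  haveI : Finite K := Module.finite_of_finite F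
  haveI : Fintype K := Fintype.ofFinite K
  have hF : Fintype.card F = 2 := by
    rw [← Finset.card_univ, show (Finset.univ : Finset F) = {0, 1} by ext c; simpa using hq c]
    simp
  have hcard : Fintype.card K = 4 := by
    have h := Module.natCard_eq_pow_finrank (K := F) (V := K)
    rw [Nat.card_eq_fintype_card, Nat.card_eq_fintype_card, hF, hr] at h
    simpa using h
  have h20 : (2 : F) = 0 := by
    rw [← Nat.cast_ofNat (R := F), ← hF]
    exact FiniteField.cast_card_eq_zero F
  have h2K : (2 : K) = 0 := by rw [← map_ofNat (algebraMap F K) 2, h20, map_zero]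
  have hyF : ∀ c : F, algebraMap F K c ≠ ω := fun c hc => hω (by
    rw [← hc, algebraMap_smul, mulVec_smul, hyv]
    exact Submodule.smul_of_tower_mem _ c (Submodule.mem_span_singleton_self v))
  have hω0 : ω ≠ 0 := fun h => hyF 0 (by rw [h, map_zero])
  have hω1 : ω ≠ 1 := fun h => hyF 1 (by rw [h, map_one])
  have hsq : ω * ω = ω + 1 := by
    have h := FiniteField.pow_card_sub_one_eq_one ω hω0
    rw [hcard] at h
    have h' : (ω - 1) * (ω * ω + ω + 1) = 0 := by ring_nf; norm_num at h; linear_combination h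
    linear_combination (mul_eq_zero.1 h').resolve_left (sub_ne_zero.2 hω1) - (ω + 1) * h2K
  have huniv : ∀ x : K, x = 0 ∨ x = 1 ∨ x = ω ∨ x = ω + 1 := by
    intro x
    have hne : ω + 1 ≠ 0 := fun h => hω1 (by linear_combination h - h2K)
    have hne1 : ω + 1 ≠ 1 := fun h => hω0 (by linear_combination h)
    have hne2 : ω + 1 ≠ ω := fun h => one_ne_zero (α := K) (by linear_combination h)
    have hc : ({0, 1, ω, ω + 1} : Finset K).card = Fintype.card K := by
      rw [hcard, Finset.card_insert_of_notMem, Finset.card_insert_of_notMem, Finset.card_insert_of_notMem,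
        Finset.card_singleton] <;> simp [hω0.symm, hω1.symm, hne.symm, hne1.symm, hne2.symm]
    have := (Finset.eq_univ_of_card _ hc) ▸ Finset.mem_univ x
    simpa using this
  obtain ⟨Tr, hTr⟩ : ∃ T : K →ₗ[F] F, T = Algebra.trace F K := ⟨_, rfl⟩
  have ht1 : Tr 1 = 0 := by
    rw [hTr, ← map_one (algebraMap F K), Algebra.trace_algebraMap, hr, nsmul_eq_mul]
    push_cast
    rw [h20, zero_mul]
  have htω : Tr ω = 1 := (hq _).resolve_left fun h => by
    obtain ⟨x, hx⟩ := Algebra.trace_surjective F K 1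
    rw [← hTr] at hx
    rcases huniv x with rfl | rfl | rfl | rfl <;>
      simp only [map_zero, map_add, ht1, h, add_zero, zero_ne_one] at hx
  have htωω : Tr (ω * ω) = 1 := by rw [hsq, map_add, htω, ht1, add_zero]
  have hfor : ∀ a b, f a b = Tr (β a b) := fun a b => by rw [hTr]; exact E.form a b
  have hlin : ∀ x, ω * x = algebraMap F K (Tr x) + algebraMap F K (Tr (ω * x)) * ω := fun x => by
    have e3 : ω * (ω + 1) = 1 := by linear_combination hsq + ω * h2K
    rcases huniv x with rfl | rfl | rfl | rfl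
    · simp
    · simp [ht1, htω]
    · rw [htωω, htω, map_one, one_mul, hsq, add_comm]
    · rw [e3, ht1, map_zero, zero_mul, add_zero, map_add, htω, ht1, add_zero, map_one]
  obtain ⟨z, hz⟩ : ∃ z, z = (y : Matrix ι ι F) *ᵥ (ω • v) := ⟨_, rfl⟩
  rw [← hz] at hω
  let Pair : (ι → F) → (ι → F) → Prop := fun a b =>
    ∃ h ∈ M, ∀ x, (h : Matrix ι ι F) *ᵥ x = x + f x a • a + f x b • b
  have hconj : ∀ a b (g : GL ι F), g ∈ M → Pair a b → Pair ((g : Matrix ι ι F) *ᵥ a) ((g : Matrix ι ι F) *ᵥ b) := by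
    intro a b g hg ⟨h, hh, he⟩
    refine ⟨g * h * g⁻¹, M.mul_mem (M.mul_mem hg hh) (M.inv_mem hg), fun x => ?_⟩
    have e : ∀ c, f (((g⁻¹ : GL ι F) : Matrix ι ι F) *ᵥ x) c = f x ((g : Matrix ι ι F) *ᵥ c) := fun c => by
      rw [← hiso g hg, mulVec_inv_cancel]
    rw [mul_mulVec, mul_mulVec, he, mulVec_add, mulVec_add, mulVec_inv_cancel, mulVec_smul, mulVec_smul, e, e]
  have hP : Pair v z := by
    obtain ⟨h, hh, -, -, he⟩ := E.exists_kS hM v ω
    have hp : Pair v (ω • v) := ⟨h, hh, fun x => by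
      rw [he, hlin, add_smul, mul_smul, algebraMap_smul, algebraMap_smul, hfor, hfor, map_smul, smul_eq_mul, ← add_assoc]⟩
    have := hconj v (ω • v) y hy hp
    rwa [hyv, ← hz] at this
  have hfvz : f z v = 0 := by
    rw [hz]
    conv_lhs => arg 2; rw [← hyv]
    rw [hiso y hy, hfor, LinearMap.map_smul₂, E.alt, smul_zero, map_zero]
  have hmul : ∀ a b a' b', f a' a = 0 → f a' b = 0 → f b' a = 0 → f b' b = 0 → Pair a b → Pair a' b' →
      ∃ h ∈ M, ∀ x, (h : Matrix ι ι F) *ᵥ x = x + f x a • a + f x b • b + f x a' • a' + f x b' • b' := by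
    intro a b a' b' e1 e2 e3 e4 ⟨h, hh, he⟩ ⟨h', hh', he'⟩
    refine ⟨h * h', M.mul_mem hh hh', fun x => ?_⟩
    rw [mul_mulVec, he, he']
    simp only [add_left' E.symp, smul_left' E.symp, e1, e2, e3, e4, mul_zero, add_zero]
    abel
  -- an orthogonal pair
  obtain ⟨a, b, hab, hba, hp⟩ : ∃ a b, β a b = 0 ∧ b ∉ Submodule.span K {a} ∧ Pair a b ∧ a ≠ 0 := by
    by_cases hzv : β v z = 0
    · exact ⟨v, z, hzv, hω, hP, hv⟩
    obtain ⟨u, hu0, huv, huz⟩ := h3 v z
    obtain ⟨h, hh, -, -, he⟩ := E.exists_kR hM (v := z) (u := u) (E.perp_zero huz)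
    have hhz : (h : Matrix ι ι F) *ᵥ z = z := by
      rw [he, E.alt, zero_smul, add_zero, E.perp_zero huz, zero_smul, add_zero]
    have hhv : (h : Matrix ι ι F) *ᵥ v = v + β v z • u := by
      rw [he, E.perp_zero huv, zero_smul, add_zero]
    have hP' := hconj v z h hh hP
    rw [hhz, hhv] at hP'
    have hfv : f (v + β v z • u) v = 0 := by
      rw [hfor, LinearMap.map_add₂, LinearMap.map_smul₂, E.alt, huv, smul_zero, add_zero, map_zero]
    have hfz : f (v + β v z • u) z = 0 := by
      rw [hfor, LinearMap.map_add₂, LinearMap.map_smul₂, huz, smul_zero, add_zero, ← hfor, E.symp.skew, hfvz, neg_zero]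
    obtain ⟨g, hg, hge⟩ := hmul v z _ _ hfv hfz hfvz (E.symp.alternating z) hP hP'
    refine ⟨v, v + β v z • u, ?_, fun hm => ?_, ⟨g, hg, fun x => ?_⟩, hv⟩
    · rw [map_add, E.alt, zero_add, map_smul, E.perp_zero huv, smul_zero]
    · obtain ⟨c, hc⟩ := Submodule.mem_span_singleton.1 hm
      have hcu : (c - 1) • v = β v z • u := by rw [sub_smul, one_smul, hc, add_sub_cancel_left]
      have h1 := congrArg (fun t => β t z) hcu
      simp only [LinearMap.map_smul₂, huz, smul_zero, smul_eq_mul, mul_zero, mul_eq_zero, hzv, or_false, sub_eq_zero] at h1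
      rw [h1, sub_self, zero_smul, eq_comm, smul_eq_zero] at hcu
      exact hcu.elim hzv hu0
    · have hzz : f x z • z + f x z • z = 0 := by
        rw [← add_smul, show f x z + f x z = 0 by rw [← two_mul, h20, zero_mul], zero_smul]
      rw [hge]
      linear_combination (norm := abel) hzz
  obtain ⟨hp, ha⟩ := hp
  -- all translates
  have htr : ∀ k : K, Pair a (b + k • a) := fun k => by
    obtain ⟨u, hu, hub⟩ := E.exists_dual ha hba
    obtain ⟨h, hh, -, -, he⟩ := E.exists_kR hM (v := a) (u := k • u) (by rw [map_smul, hu, smul_zero])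
    have h1 : (h : Matrix ι ι F) *ᵥ a = a := by
      rw [he, E.alt, zero_smul, add_zero, map_smul, hu, smul_zero, zero_smul, add_zero]
    have h2 : (h : Matrix ι ι F) *ᵥ b = b + k • a := by
      rw [he, E.perp_zero hab, zero_smul, add_zero, map_smul, hub, smul_eq_mul, mul_one]
    have := hconj a b h hh hp
    rwa [h1, h2] at this
  have hzero : ∀ k l : K, f (b + k • a) (b + l • a) = 0 ∧ f (b + k • a) a = 0 := fun k l => by
    constructor <;> rw [hfor] <;>
      simp [E.alt, hab, E.perp_zero hab]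
  obtain ⟨X, hX⟩ : ∃ X : K →ₗ[F] K, ∀ t, X t = algebraMap F K (Tr t) + algebraMap F K (Tr (ω * t)) * ω +
      algebraMap F K (Tr ((ω + 1) * t)) * (ω + 1) :=
    ⟨Algebra.linearMap F K ∘ₗ Tr + LinearMap.mulRight F ω ∘ₗ Algebra.linearMap F K ∘ₗ Tr ∘ₗ LinearMap.mulLeft F ω +
      LinearMap.mulRight F (ω + 1) ∘ₗ Algebra.linearMap F K ∘ₗ Tr ∘ₗ LinearMap.mulLeft F (ω + 1), fun t => by simp⟩
  have hUX : Uni β M a X := by
    obtain ⟨g1, hg1, he1⟩ := hmul a (b + (0 : K) • a) a (b + (1 : K) • a) (E.symp.alternating a)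
      (by rw [E.symp.skew, (hzero 0 0).2, neg_zero]) (hzero 1 0).2 (hzero 1 0).1 (htr 0) (htr 1)
    obtain ⟨g2, hg2, he2⟩ := hmul a (b + ω • a) a (b + (ω + 1) • a) (E.symp.alternating a)
      (by rw [E.symp.skew, (hzero ω ω).2, neg_zero]) (hzero (ω + 1) 0).2 (hzero _ _).1 (htr ω) (htr (ω + 1))
    refine ⟨g1 * g2, M.mul_mem hg1 hg2, fun x => ?_⟩
    rw [mul_mulVec, he1, he2]
    have hfab : f a b = 0 := by rw [hfor, hab, map_zero]
    have hfba : f b a = 0 := by rw [E.symp.skew, hfab, neg_zero]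
    have hfaa : ∀ k l : K, f (k • a) (l • a) = 0 := fun k l => by rw [hfor]; simp [E.alt]
    have hfkb : ∀ k : K, f (k • a) b = 0 ∧ f b (k • a) = 0 := fun k => by
      constructor <;> rw [hfor] <;> simp [hab, E.perp_zero hab]
    have hfka : ∀ k : K, f (k • a) a = 0 ∧ f a (k • a) = 0 := fun k => by
      constructor <;> rw [hfor] <;> simp [E.alt]
    simp only [add_left' E.symp, add_right' E.symp, smul_left' E.symp, E.symp.alternating, hfab, hfba,
      hfaa, (hfkb _).1, (hfkb _).2, (hfka _).1, (hfka _).2, mul_zero, add_zero, zero_smul]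
    have hfk : ∀ k : K, f x (k • a) = Tr (k * β x a) := fun k => by rw [hfor, map_smul, smul_eq_mul]
    simp only [hX, hfk, hfor x a, add_right' E.symp, add_mul, map_add, one_mul, add_smul, mul_smul, algebraMap_smul, one_smul, smul_add]
    generalize ω • a = w
    match_scalars <;> first
      | ring1
      | linear_combination (2 * f x b + Tr (ω * β x a) + Tr (β x a)) * h20
      | linear_combination f x b * h20
      | linear_combination (2 * Tr (β x a) + f x b) * h20
  have h11 : (1 : F) + 1 = 0 := by linear_combination h20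
  have h11' : ∀ c : F, 1 + (1 + c) = c := fun c => by linear_combination h20
  have hXs : Symm X := fun s t => by
    rw [← hTr]
    rcases huniv s with rfl | rfl | rfl | rfl <;> rcases huniv t with rfl | rfl | rfl | rfl <;>
      simp [hX, ht1, htω, htωω, add_mul, mul_add, hsq, ← Algebra.smul_def, add_assoc, h11, h11']
  refine E.hasT_of_uni hM hr ha hUX hXs ⟨ω, ?_⟩
  simp only [hX, mul_one, add_mul, one_mul, map_add, ht1, htω, htωω, add_zero, h11, map_zero, map_one, zero_mul]
  intro h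
  exact one_ne_zero (α := K) (by linear_combination h + 2 * hsq + (ω + 1) * h2K)

/-- A group containing the linear isometries and a non-semilinear one contains all transvections. -/
theorem full_of_not_semi (hr : (Module.finrank F K).Prime) (hiso : ∀ g ∈ M, Iso f g)
    (h3 : Module.finrank F K = 2 → (∀ c : F, c = 0 ∨ c = 1) →
      ∀ v w : ι → F, ∃ u, u ≠ 0 ∧ β u v = 0 ∧ β u w = 0)
    {g : GL ι F} (hg : g ∈ M) (hns : ¬ FieldMax.Semi K g) : ∀ w, Full f M w := by
  classical
  obtain ⟨v₁, k, hvk⟩ : ∃ (v : ι → F) (k : K), ∀ k' : K,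
      (g : Matrix ι ι F) *ᵥ (k • v) ≠ k' • ((g : Matrix ι ι F) *ᵥ v) := by
    by_contra hc
    push Not at hc
    refine hns (FieldMax.semi_of_lines (fun v => ?_) hc)
    by_contra hall
    push Not at hall
    by_cases hv : v = 0
    · subst hv
      exact hns (fun k => ⟨0, fun x => by
        have hx := hall x
        rw [Submodule.span_singleton_eq_bot.2 rfl, Submodule.mem_bot] at hx
        rw [hx, smul_zero, mulVec_zero, smul_zero]⟩)
    obtain ⟨w, hw⟩ := E.nd v hv
    obtain ⟨c, rfl⟩ := Submodule.mem_span_singleton.1 (hall w)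
    exact hw (by rw [map_smul, E.alt, smul_zero])
  have hv1 : v₁ ≠ 0 := fun h => hvk 0 (by rw [h, smul_zero, mulVec_zero, smul_zero])
  obtain ⟨h, hh, -, hl, he⟩ := E.exists_move hM (mulVec_ne_zero g hv1) hv1
  have hy : ((h * g : GL ι F) : Matrix ι ι F) *ᵥ v₁ = v₁ := by rw [mul_mulVec, he]
  have hmove : ((h * g : GL ι F) : Matrix ι ι F) *ᵥ (k • v₁) ∉ Submodule.span K {v₁} := fun hm => by
    obtain ⟨c, hc⟩ := Submodule.mem_span_singleton.1 hm
    refine hvk c (mulVec_injective h ?_)
    simp only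
    rw [← mul_mulVec, ← hc, hl, he]
  have hT : HasT f M := by
    by_cases hsmall : Module.finrank F K = 2 ∧ ∀ c : F, c = 0 ∨ c = 1
    · exact E.hasT_four hM hsmall.1 hsmall.2 (h3 hsmall.1 hsmall.2) hiso hv1 (M.mul_mem hh hg) hy hmove
    refine E.hasT_gen hM hiso hr (fun h2 => ?_) hv1 _ (h * g) (M.mul_mem hh hg) hy ⟨k, hmove⟩
      (Nat.le_add_right _ _)
    by_contra hc
    refine hsmall ⟨h2, fun c => ?_⟩
    by_contra hcc
    exact hc ⟨c, fun e => hcc (Or.inl e), fun e => hcc (Or.inr e)⟩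
  obtain ⟨v, μ, hv, hμ, hvT⟩ := hT
  have hall : ∀ w, w ≠ 0 → sT f w μ ∈ M := fun w hw => by
    obtain ⟨p, hp, hpb, -, hpe⟩ := E.exists_move hM hv hw
    rw [← hpe, ← conj_sT_iso E.symp (E.iso_of_beta hpb)]
    exact M.mul_mem (M.mul_mem hp hvT) (M.inv_mem hp)
  intro w
  by_cases hw : w = 0
  · subst hw; exact full_zero E.symp
  have hsqr : ∀ a : F, sT f w (a ^ 2 * μ) ∈ M := fun a => by
    by_cases ha : a = 0
    · rw [ha, zero_pow two_ne_zero, zero_mul, sT_zero E.symp]; exact M.one_mem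
    · rw [← sT_smul E.symp]; exact hall _ (smul_ne_zero ha hw)
  intro c
  obtain ⟨a, b, hab⟩ := exists_sq_sub_sq (c / μ)
  rw [show c = a ^ 2 * μ + -(b ^ 2 * μ) by rw [← sub_eq_add_neg, ← sub_mul, hab, div_mul_cancel₀ _ hμ],
    ← sT_mul E.symp, ← sT_inv E.symp]
  exact M.mul_mem (hsqr a) (M.inv_mem (hsqr b))

end Over

/-- The normaliser of a self-adjoint subfield of prime degree in the symplectic group. -/
theorem isMaximalIn_spField {m r : ℕ} (hr : r.Prime) (h3 : r = 2 → Fintype.card F = 2 → 3 ≤ m) (hm : 1 ≤ m)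
    (A : Subalgebra F (Matrix (Fin m ⊕ Fin m) (Fin m ⊕ Fin m) F)) (hA : Cfsg.Geo.IsFieldSubalgebra r A)
    (hsa : Cfsg.Geo.IsSelfAdjointFor (Cfsg.sympForm m F) A)
    (halt : ∀ k ∈ A, ∀ v : (Fin m ⊕ Fin m → F), Cfsg.sympForm m F (Matrix.mulVec k v) v = 0) :
    Cfsg.Geo.IsMaximalIn (Cfsg.spGL m F) (Cfsg.Geo.subalgebraNormalizer A ⊓ Cfsg.spGL m F) := by
  classical
  have hr2 := hr.two_le
  haveI : Nontrivial A := Module.nontrivial_of_finrank_pos (R := F) (by rw [hA.finrank_eq]; omega)
  letI : CommRing A := { (inferInstance : Ring A) with mul_comm := fun a b => Subtype.ext (hA.comm _ a.2 _ b.2) }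
  have hfield : IsField A :=
    { exists_pair_ne := exists_pair_ne A
      mul_comm := mul_comm
      mul_inv_cancel := fun {a} ha => by
        obtain ⟨y, hy, h⟩ := hA.inv _ a.2 (fun h0 => ha (Subtype.ext h0))
        exact ⟨⟨y, hy⟩, Subtype.ext h⟩ }
  letI : Field A := hfield.toField
  letI modA : Module A (Fin m ⊕ Fin m → F) :=
    Module.compHom _ (((Matrix.toLinAlgEquiv' : Matrix (Fin m ⊕ Fin m) (Fin m ⊕ Fin m) F ≃ₐ[F] _).toAlgHom.comp A.val).toRingHom)
  letI : SMul A (Fin m ⊕ Fin m → F) := modA.toDistribMulAction.toSMul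
  have hsmul : ∀ (a : A) (x : Fin m ⊕ Fin m → F), a • x = (a : Matrix (Fin m ⊕ Fin m) (Fin m ⊕ Fin m) F) *ᵥ x := fun a x => rfl
  haveI : IsScalarTower F A (Fin m ⊕ Fin m → F) := IsScalarTower.of_algebraMap_smul fun c x => by
    refine (hsmul _ x).trans ?_
    change (algebraMap F (Matrix (Fin m ⊕ Fin m) (Fin m ⊕ Fin m) F) c) *ᵥ x = c • x
    rw [Algebra.algebraMap_eq_smul_one, smul_mulVec, one_mulVec]
  haveI : FiniteDimensional F A := Module.finite_of_finrank_pos (by rw [hA.finrank_eq]; omega)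
  have hf := Transvec.isSymplecticForm_sympForm (F := F) m
  obtain ⟨β, E⟩ := exists_over (K := A) hf (fun k x y => by rw [hsmul, hsmul]; exact hsa k k.2 x y)
    (fun k x => by rw [hsmul]; exact halt k k.2 x)
  have hsemi : ∀ g : GL (Fin m ⊕ Fin m) F, FieldMax.Semi A g → g ∈ Cfsg.Geo.subalgebraNormalizer A := fun g hg =>
    UnitOver.mem_normalizer_of_semi fun k hk => by
      obtain ⟨k', hk'⟩ := hg ⟨k, hk⟩
      exact ⟨k', k'.2, fun x => by simpa [hsmul] using hk' x⟩
  refine ⟨lt_of_le_not_ge inf_le_right fun hle => ?_, fun M hHM hMK => ?_⟩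
  · haveI : Nonempty (Fin m ⊕ Fin m) := ⟨.inl ⟨0, by omega⟩⟩
    obtain ⟨p, hp⟩ := exists_ne (0 : Fin m ⊕ Fin m → F)
    obtain ⟨k, hk⟩ : ∃ k : A, ∀ c : F, algebraMap F A c ≠ k := by
      by_contra hc
      push Not at hc
      have h1 := LinearMap.finrank_le_finrank_of_injective (R := F) (M := A) (M' := F)
        (f := (LinearEquiv.ofBijective (Algebra.linearMap F A) ⟨(algebraMap F A).injective, hc⟩).symm.toLinearMap)
        (LinearEquiv.injective _)
      rw [Module.finrank_self, hA.finrank_eq] at h1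
      omega
    obtain ⟨t, ht, ht'⟩ := UnitOver.semi_of_mem_normalizer (hle (Transvec.sT_mem_spGL m p 1)).1 k.2
    have hkp : Cfsg.sympForm m F ((k : Matrix _ _ F) *ᵥ p) p = 0 := halt k k.2 p
    have h1 := ht' p
    rw [sT_mulVec hf, sT_mulVec hf, hkp, hf.alternating, mul_zero, zero_smul, add_zero,
      add_zero] at h1
    have hkt : k = ⟨t, ht⟩ := smul_left_injective A hp (show k • p = (⟨t, ht⟩ : A) • p by
      rw [hsmul, hsmul]; exact h1)
    obtain ⟨x, hx⟩ := (hf.nondegenerate p hp).1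
    have h2 := ht' x
    rw [show t = (k : Matrix _ _ F) from (congrArg Subtype.val hkt).symm, sT_mulVec hf, sT_mulVec hf, one_mul, one_mul,
      mulVec_add, mulVec_smul, add_right_inj] at h2
    have h3 : (algebraMap F A (Cfsg.sympForm m F ((k : Matrix _ _ F) *ᵥ x) p)) • p =
        (algebraMap F A (Cfsg.sympForm m F x p) * k) • p := by
      refine Eq.trans ?_ (mul_smul (algebraMap F A (Cfsg.sympForm m F x p)) k p).symm
      rw [algebraMap_smul]
      refine Eq.trans ?_ (algebraMap_smul A (Cfsg.sympForm m F x p) (k • p)).symm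
      rw [hsmul]; exact h2
    have h4 := smul_left_injective A hp h3
    refine hk (Cfsg.sympForm m F ((k : Matrix _ _ F) *ᵥ x) p / Cfsg.sympForm m F x p) ?_
    rw [map_div₀, h4, mul_div_assoc, mul_comm]
    exact div_mul_cancel₀ _ (fun h => hx ((algebraMap F A).injective (by rw [h, map_zero])))
  by_cases hMN : M ≤ Cfsg.Geo.subalgebraNormalizer A
  · exact Or.inl (le_antisymm (le_inf hMN hMK) hHM)
  refine Or.inr (le_antisymm hMK (Transvec.spGL_le_of_full ?_))
  obtain ⟨g, hg, hgN⟩ := SetLike.not_le_iff_exists.1 hMN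
  have hlin : LinIn β M := fun h hl hb => hHM
    ⟨hsemi h fun k => ⟨k, fun x => hl k x⟩, (mem_spGL_iff m h).2 (E.iso_of_beta hb)⟩
  refine E.full_of_not_semi hlin (hA.finrank_eq ▸ hr) (fun x hx => (mem_spGL_iff m x).1 (hMK hx)) ?_ hg
    fun h => hgN (hsemi g h)
  intro hr2 hq v w
  rw [hA.finrank_eq] at hr2
  have hcard : Fintype.card F = 2 := by
    rw [← Finset.card_univ, show (Finset.univ : Finset F) = {0, 1} by ext c; simpa using hq c]
    simp
  have hm3 := h3 hr2 hcard
  haveI := FieldMax.finiteK (ι := Fin m ⊕ Fin m) (F := F) (K := A)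
  have hdim := Module.finrank_mul_finrank F A (Fin m ⊕ Fin m → F)
  rw [hA.finrank_eq, hr2, Module.finrank_fintype_fun_eq_card, Fintype.card_sum, Fintype.card_fin] at hdim
  obtain ⟨L, hL⟩ : ∃ L : (Fin m ⊕ Fin m → F) →ₗ[A] A × A, ∀ u, L u = (β u v, β u w) :=
    ⟨(β.flip v).prod (β.flip w), fun u => rfl⟩
  have h1 := LinearMap.finrank_range_add_finrank_ker L
  have h2 := Submodule.finrank_le (LinearMap.range L)
  rw [Module.finrank_prod, Module.finrank_self] at h2
  obtain ⟨u, hu, hu0⟩ := Submodule.exists_mem_ne_zero_of_ne_bot (p := LinearMap.ker L) fun h => by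
    rw [h, finrank_bot] at h1; omega
  rw [LinearMap.mem_ker, hL, Prod.mk_eq_zero] at hu
  exact ⟨u, hu0, hu.1, hu.2⟩

end CfsgLib.Classical22.SpField
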